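import Groth.Agent.Lib.ASCover99.Series

/-!
# First cohomology of the twisted action on `k[[t]]`
-/

set_option autoImplicit false

noncomputable section

universe u

namespace Groth.Agent.Lib.ASCover99

open groupCohomology PowerSeries

section Cyclic

variable {k G : Type u} [CommRing k] [Group G] (A : Rep k G) (g : G)

/-- The partial sums `∑ i < r, g^i z`. -/
def psum (z : A) (r : ℕ) : A := ∑ i ∈ Finset.range r, A.ρ (g ^ i) z

theorem psum_add (z : A) (i j : ℕ) : psum A g z (i + j) = psum A g z i + A.ρ (g ^ i) (psum A g z j) := by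
  simp only [psum, Finset.sum_range_add, map_sum, pow_add, map_mul, Module.End.mul_apply]

variable {A g}

theorem psum_mod {p : ℕ} (hgp : g ^ p = 1) {z : A} (hz : psum A g z p = 0) (r : ℕ) :
    psum A g z r = psum A g z (r % p) := by
  have h : ∀ q, psum A g z (p * q) = 0 := by
    intro q
    induction q with
    | zero => simp [psum]
    | succ q ih => rw [Nat.mul_succ, psum_add, ih, pow_mul, hgp, one_pow, map_one, hz]; simp
  conv_lhs => rw [← Nat.div_add_mod r p, psum_add, h, pow_mul, hgp, one_pow, map_one]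
  simp

theorem cocycle_apply_pow (f : cocycles₁ A) (r : ℕ) : f (g ^ r) = psum A g (f g) r := by
  induction r with
  | zero => rw [pow_zero, cocycles₁_map_one]; simp [psum]
  | succ r ih =>
    rw [pow_succ, (mem_cocycles₁_iff f).1 f.2, ih, psum_add, add_comm]
    simp [psum]

theorem cocycles_ext_gen (hpow : ∀ x : G, ∃ r : ℕ, g ^ r = x) {f₁ f₂ : cocycles₁ A} (h : f₁ g = f₂ g) : f₁ = f₂ :=
  cocycles₁_ext fun x => by
    obtain ⟨r, rfl⟩ := hpow x
    rw [cocycle_apply_pow, cocycle_apply_pow, h]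

theorem exists_cocycle (hpow : ∀ x : G, ∃ r : ℕ, g ^ r = x) {p : ℕ} (hp : orderOf g = p) {z : A}
    (hz : psum A g z p = 0) : ∃ f : cocycles₁ A, f g = z := by
  choose idx hidx using hpow
  have hgp : g ^ p = 1 := hp ▸ pow_orderOf_eq_one g
  have key : ∀ r, psum A g z (idx (g ^ r)) = psum A g z r := fun r => by
    rw [psum_mod hgp hz, psum_mod hgp hz r]
    congr 1
    rw [← hp]
    exact pow_inj_mod.1 (hidx (g ^ r))
  refine ⟨⟨fun x => psum A g z (idx x), ?_⟩, ?_⟩
  · rw [mem_cocycles₁_iff]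
    intro x y
    show psum A g z (idx (x * y)) = A.ρ x (psum A g z (idx y)) + psum A g z (idx x)
    have h := key (idx x + idx y)
    rw [pow_add, hidx, hidx, psum_add, hidx] at h
    rw [h, add_comm]
  · show psum A g z (idx g) = z
    have h := key 1
    rw [pow_one] at h
    rw [h]
    simp [psum]

theorem psum_cocycle {p : ℕ} (hgp : g ^ p = 1) (f : cocycles₁ A) : psum A g (f g) p = 0 := by
  rw [← cocycle_apply_pow, hgp, cocycles₁_map_one]

theorem H1π_eq_zero_iff_gen (hpow : ∀ x : G, ∃ r : ℕ, g ^ r = x) (f : cocycles₁ A) :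
    H1π A f = 0 ↔ ∃ m : A, A.ρ g m - m = f g := by
  rw [H1π_eq_zero_iff]
  constructor
  · rintro ⟨m, hm⟩
    exact ⟨m, congrFun hm g⟩
  · rintro ⟨m, hm⟩
    let f₂ : cocycles₁ A := ⟨_, d₀₁_apply_mem_cocycles₁ m⟩
    have : f₂ = f := cocycles_ext_gen hpow hm
    exact ⟨m, congrArg (fun f : cocycles₁ A => ((f : G → A))) this⟩

end Cyclic

variable {k : Type u} [Field k] [IsAlgClosed k] {p n : ℕ} [Fact p.Prime] [CharP k p] {w : PowerSeries k}

theorem orderOf_of_card {G : Type u} [Group G] [Finite G] {g : G} (hG : Nat.card G = p)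
    (hg : ∀ x : G, x ∈ Subgroup.zpowers g) : orderOf g = p ∧ ∀ x : G, ∃ r : ℕ, g ^ r = x :=
  ⟨(orderOf_eq_card_of_forall_mem_zpowers hg).trans hG, fun x => by
    have := mem_powers_iff_mem_zpowers.2 (hg x)
    exact this⟩

theorem exists_H1_equiv (S : Setup p n w) (a b : ℤ) (hab : a = b + n) {G : Type u} [Group G] [Finite G] (g : G)
    (hG : Nat.card G = p) (hg : ∀ x : G, x ∈ Subgroup.zpowers g) (ρ : Representation k G (PowerSeries k))
    (hρ : ρ g = T S a) :
    ∃ e : H1 (Rep.of ρ) ≃ₗ[k] (J p n b → k),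
      ∀ (f : cocycles₁ (Rep.of ρ)) (m : PowerSeries k), f g = E S b m → e (H1π (Rep.of ρ) f) = proj p n b m := by
  classical
  obtain ⟨hord, hpow⟩ := orderOf_of_card hG hg
  have hTpow : ∀ r, ρ (g ^ r) = T S a ^ r := fun r => by rw [map_pow, hρ]
  have hT : T S a ^ p = 1 := by rw [← hTpow, ← hord, pow_orderOf_eq_one, map_one]
  have hpsum : ∀ z, psum (Rep.of ρ) g z p = Nop S a z := fun z => by
    rw [Nop, LinearMap.sum_apply]
    exact Finset.sum_congr rfl fun r _ => LinearMap.congr_fun (hTpow r) z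
  choose cyc hcyc using fun m : PowerSeries k => exists_cocycle (A := Rep.of ρ) hpow hord
    (z := E S b m) (by rw [hpsum]; exact Nop_comp_E S a b hab hT m)
  let Θ : PowerSeries k →ₗ[k] H1 (Rep.of ρ) :=
    (H1π (Rep.of ρ)).hom ∘ₗ
      { toFun := cyc
        map_add' := fun x y => cocycles_ext_gen hpow (by
          show cyc (x + y) g = cyc x g + cyc y g
          rw [hcyc, hcyc, hcyc, map_add])
        map_smul' := fun r x => cocycles_ext_gen hpow (by
          show cyc (r • x) g = r • cyc x g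
          rw [hcyc, hcyc, map_smul]) }
  have hΘ : ∀ m, Θ m = H1π (Rep.of ρ) (cyc m) := fun m => rfl
  have hsurj : Function.Surjective Θ := fun x => by
    induction x using H1_induction_on with | @h f =>
    obtain ⟨m, hm⟩ := exists_E_eq S a b hab hT (f g) (by
      rw [← hpsum]; exact psum_cocycle (hord ▸ pow_orderOf_eq_one g) f)
    exact ⟨m, by rw [hΘ, cocycles_ext_gen hpow (f₁ := cyc m) (f₂ := f) ((hcyc m).trans hm)]⟩
  have hker : LinearMap.ker Θ = LinearMap.ker (proj p n b) := by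
    ext m
    rw [LinearMap.mem_ker, LinearMap.mem_ker, hΘ, H1π_eq_zero_iff_gen hpow, hcyc, ← E_eq_iff S b m]
    refine exists_congr fun q => ?_
    rw [E_X_pow_n S a b hab, ← hρ]
    exact eq_comm
  let e : H1 (Rep.of ρ) ≃ₗ[k] (J p n b → k) :=
    (Θ.quotKerEquivOfSurjective hsurj).symm ≪≫ₗ Submodule.quotEquivOfEq _ _ hker ≪≫ₗ
      (proj (k := k) p n b).quotKerEquivOfSurjective (proj_surjective b)
  refine ⟨e, fun f m hm => ?_⟩
  have h1 : H1π (Rep.of ρ) f = Θ m := by
    rw [hΘ, cocycles_ext_gen hpow (f₁ := f) (f₂ := cyc m) (hm.trans (hcyc m).symm)]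
  have h2 : (Θ.quotKerEquivOfSurjective hsurj).symm (Θ m) = Submodule.Quotient.mk m := by
    rw [LinearEquiv.symm_apply_eq]; rfl
  rw [h1]
  show (proj (k := k) p n b).quotKerEquivOfSurjective (proj_surjective b)
    (Submodule.quotEquivOfEq _ _ hker ((Θ.quotKerEquivOfSurjective hsurj).symm (Θ m))) = _
  rw [h2]
  rfl

/-! ### Counting -/

theorem ediv_eq_of {p : ℕ} {x q r : ℤ} (h : x = p * q + r) (h0 : 0 ≤ r) (h1 : r < p) : x / (p : ℤ) = q := by
  rw [h, add_comm, Int.add_mul_ediv_left _ _ (by omega), Int.ediv_eq_zero_of_lt h0 h1, zero_add]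

theorem succ_ediv {p : ℕ} (hp : 0 < p) (x : ℤ) :
    (x + 1) / (p : ℤ) = x / (p : ℤ) + if (p : ℤ) ∣ x + 1 then 1 else 0 := by
  have h0 := Int.emod_nonneg x (show (p : ℤ) ≠ 0 by omega)
  have h1 := Int.emod_lt_of_pos x (show (0 : ℤ) < p by omega)
  have h2 := Int.mul_ediv_add_emod x p
  by_cases hlt : x % p + 1 < p
  · rw [if_neg, add_zero]
    · exact ediv_eq_of (r := x % p + 1) (by omega) (by omega) hlt
    · intro hd
      have hd' : (p : ℤ) ∣ x % p + 1 := by
        have := dvd_sub hd (Dvd.intro (x / p) rfl : (p : ℤ) ∣ p * (x / p))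
        rwa [show x + 1 - p * (x / p) = x % p + 1 by omega] at this
      have := Int.le_of_dvd (by omega) hd'
      omega
  · have he : x + 1 = p * (x / p + 1) := by rw [mul_add, mul_one]; omega
    rw [if_pos ⟨_, he⟩]
    exact ediv_eq_of (r := 0) (by omega) le_rfl (by omega)

theorem card_dvd (hp : 0 < p) (b : ℤ) (m : ℕ) :
    (((Finset.range m).filter fun i : ℕ => (p : ℤ) ∣ b + i).card : ℤ) =
      (b - 1 + m) / (p : ℤ) - (b - 1) / (p : ℤ) := by
  induction m with
  | zero => simp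
  | succ m ih =>
    rw [Finset.range_add_one, Finset.filter_insert]
    have h := succ_ediv hp (b - 1 + m)
    rw [show b - 1 + (m : ℤ) + 1 = b + m by ring] at h
    rw [show b - 1 + ((m + 1 : ℕ) : ℤ) = b + m by push_cast; ring, h]
    split_ifs with hd
    · rw [Finset.card_insert_of_notMem (by simp)]; push_cast; omega
    · omega

theorem card_fin_filter (P : ℕ → Prop) [DecidablePred P] (m : ℕ) :
    Fintype.card {i : Fin m // P i} = ((Finset.range m).filter P).card := by
  rw [Fintype.card_subtype]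
  exact Finset.card_bij (fun i _ => (i : ℕ)) (fun i hi => by simpa using hi) (fun i _ j _ h => Fin.ext h)
    fun j hj => ⟨⟨j, by simpa using (Finset.mem_filter.1 hj).1⟩, by simpa using (Finset.mem_filter.1 hj).2, rfl⟩

theorem card_J (hp : 0 < p) (b : ℤ) (m : ℕ) :
    (Fintype.card (J p m b) : ℤ) = m - ((b - 1 + m) / (p : ℤ) - (b - 1) / (p : ℤ)) := by
  rw [card_fin_filter (fun i : ℕ => ¬ (p : ℤ) ∣ b + (i : ℕ)), ← card_dvd hp]
  have := Finset.card_filter_add_card_filter_not (s := Finset.range m) (fun i : ℕ => (p : ℤ) ∣ b + i)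
  rw [Finset.card_range] at this
  omega

theorem card_J₂ (hp : p.Prime) (hn : 0 < n) (hpn : ¬ p ∣ n) :
    (Fintype.card {i : J p n 1 // ¬ (p : ℤ) ∣ (1 : ℤ) - n + (i.1 : ℕ)} : ℤ) =
      ((n + 1) * (p - 1) : ℤ) / p - 1 - (n - 1 : ℤ) / p := by
  classical
  have e := Fintype.card_congr (Equiv.subtypeSubtypeEquivSubtypeInter (fun i : Fin n => ¬ (p : ℤ) ∣ (1 : ℤ) + (i : ℕ))
    (fun i : Fin n => ¬ (p : ℤ) ∣ (1 : ℤ) - n + (i : ℕ)))
  rw [e, card_fin_filter (fun i : ℕ => ¬ (p : ℤ) ∣ (1 : ℤ) + (i : ℕ) ∧ ¬ (p : ℤ) ∣ (1 : ℤ) - n + (i : ℕ))]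
  have hsplit : (((Finset.range n).filter fun i : ℕ => ¬ (p : ℤ) ∣ (1 : ℤ) + i ∧ ¬ (p : ℤ) ∣ (1 : ℤ) - n + i).card : ℤ) =
      n - ((Finset.range n).filter fun i : ℕ => (p : ℤ) ∣ (1 : ℤ) + i).card -
        ((Finset.range n).filter fun i : ℕ => (p : ℤ) ∣ (1 : ℤ) - n + i).card := by
    have hdisj : Disjoint ((Finset.range n).filter fun i : ℕ => (p : ℤ) ∣ (1 : ℤ) + i)
        ((Finset.range n).filter fun i : ℕ => (p : ℤ) ∣ (1 : ℤ) - n + i) := by
      rw [Finset.disjoint_filter]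
      intro i _ h1 h2
      have := dvd_sub h1 h2
      rw [show (1 : ℤ) + i - (1 - n + i) = n by ring] at this
      exact hpn (Int.natCast_dvd_natCast.1 this)
    have h := Finset.card_filter_add_card_filter_not (s := Finset.range n)
      (fun i : ℕ => (p : ℤ) ∣ (1 : ℤ) + i ∨ (p : ℤ) ∣ (1 : ℤ) - n + i)
    rw [Finset.filter_or, Finset.card_union_of_disjoint hdisj, Finset.card_range] at h
    simp only [not_or] at h
    omega
  rw [hsplit, card_dvd hp.pos, card_dvd hp.pos]
  set q : ℤ := (n : ℤ) / p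
  set r : ℤ := (n : ℤ) % p
  have hr : (n : ℤ) = p * q + r := (Int.mul_ediv_add_emod (n : ℤ) p).symm
  have hr1 : r < p := Int.emod_lt_of_pos _ (by exact_mod_cast hp.pos)
  have hr0 : 0 < r := by
    rcases (Int.emod_nonneg (n : ℤ) (show (p : ℤ) ≠ 0 by exact_mod_cast hp.pos.ne')).lt_or_eq with h | h
    · exact h
    · exact absurd (Int.natCast_dvd_natCast.1 (Int.dvd_of_emod_eq_zero h.symm)) hpn
  rw [show (1 : ℤ) - 1 = 0 by ring, zero_add, Int.zero_ediv, show (1 : ℤ) - n - 1 = -n by ring, neg_add_cancel,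
    Int.zero_ediv, ediv_eq_of (x := (n : ℤ)) hr hr0.le hr1,
    ediv_eq_of (x := -(n : ℤ)) (q := -q - 1) (r := p - r) (by rw [hr]; ring) (by omega) (by omega),
    ediv_eq_of (x := (n : ℤ) - 1) (q := q) (r := r - 1) (by rw [hr]; ring) (by omega) (by omega),
    ediv_eq_of (x := ((n : ℤ) + 1) * ((p : ℤ) - 1)) (q := n + 1 + (-q - 1)) (r := p - r - 1)
      (by linear_combination (-1 : ℤ) * hr) (by omega) (by omega)]
  ring

theorem finrank_H1 (S : Setup p n w) (a : ℤ) {G : Type u} [Group G] [Finite G] (g : G) (hG : Nat.card G = p)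
    (hg : ∀ x : G, x ∈ Subgroup.zpowers g) (ρ : Representation k G (PowerSeries k)) (hρ : ρ g = T S a) :
    Module.Finite k (H1 (Rep.of ρ)) ∧
      (Module.finrank k (H1 (Rep.of ρ)) : ℤ) = n - (a - 1) / (p : ℤ) + (a - 1 - n) / (p : ℤ) := by
  obtain ⟨e, -⟩ := exists_H1_equiv S a (a - n) (by ring) g hG hg ρ hρ
  refine ⟨Module.Finite.equiv e.symm, ?_⟩
  rw [e.finrank_eq, Module.finrank_fintype_fun_eq_card, card_J (Nat.Prime.pos Fact.out)]
  rw [show a - n - 1 + n = a - 1 by ring, show a - n - 1 = a - 1 - n by ring]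
  ring

theorem finrank_range_derivative (S : Setup p n w) {G : Type u} [Group G] [Finite G] (g : G) (hG : Nat.card G = p)
    (hg : ∀ x : G, x ∈ Subgroup.zpowers g) (ρ₀ ρ₁ : Representation k G (PowerSeries k))
    (hρ₀ : ρ₀ g = T S 0) (hρ₁ : ρ₁ g = T S (n + 1)) (φ : Rep.of ρ₀ ⟶ Rep.of ρ₁)
    (hφ : ∀ h : PowerSeries k, φ.hom h = d⁄dX k h) :
    Module.Finite k (LinearMap.range ((groupCohomology.functor k G 1).map φ).hom) ∧
      (Module.finrank k (LinearMap.range ((groupCohomology.functor k G 1).map φ).hom) : ℤ) =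
        ((n + 1) * (p - 1) : ℤ) / p - 1 - (n - 1 : ℤ) / p := by
  classical
  obtain ⟨e₀, he₀⟩ := exists_H1_equiv S 0 (-n) (by ring) g hG hg ρ₀ hρ₀
  obtain ⟨e₁, he₁⟩ := exists_H1_equiv S (n + 1) 1 (by ring) g hG hg ρ₁ hρ₁
  obtain ⟨hord, hpow⟩ := orderOf_of_card hG hg
  set M := ((groupCohomology.functor k G 1).map φ).hom with hM
  have key : ∀ (f : cocycles₁ (Rep.of ρ₀)) (m : PowerSeries k), f g = E S (-(n : ℤ)) m →
      e₁ (M (H1π (Rep.of ρ₀) f)) = proj p n 1 (L n m) := by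
    intro f m hm
    rw [hM]
    show e₁ (groupCohomology.map (MonoidHom.id G) φ 1 (H1π (Rep.of ρ₀) f)) = _
    erw [H1π_comp_map_apply]
    refine he₁ _ _ ?_
    rw [coe_mapCocycles₁]
    show φ.hom (f g) = _
    rw [hm, hφ, derivative_E S]
  have hex : ∀ x : H1 (Rep.of ρ₀), ∃ (f : cocycles₁ (Rep.of ρ₀)) (m : PowerSeries k),
      H1π (Rep.of ρ₀) f = x ∧ f g = E S (-(n : ℤ)) m := by
    intro x
    induction x using H1_induction_on with | @h f =>
    obtain ⟨m, hm⟩ := exists_E_eq S 0 (-(n : ℤ)) (by ring)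
      (by rw [← hρ₀, ← map_pow, ← hord, pow_orderOf_eq_one, map_one]) (f g) (by
        have := psum_cocycle (hord ▸ pow_orderOf_eq_one g) f
        rw [Nop, LinearMap.sum_apply, ← this]
        exact Finset.sum_congr rfl fun r _ => by rw [← hρ₀, ← map_pow])
    exact ⟨f, m, rfl, hm.symm⟩
  have hrange : (LinearMap.range M).map (e₁ : H1 (Rep.of ρ₁) →ₗ[k] (J p n 1 → k)) =
      LinearMap.range ((proj p n 1).comp (L (k := k) n)) := by
    ext y
    simp only [Submodule.mem_map, LinearMap.mem_range, LinearMap.comp_apply, LinearEquiv.coe_coe]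
    constructor
    · rintro ⟨z, ⟨x, rfl⟩, rfl⟩
      obtain ⟨f, m, rfl, hm⟩ := hex x
      exact ⟨m, (key f m hm).symm⟩
    · rintro ⟨m, rfl⟩
      obtain ⟨f, hf⟩ := exists_cocycle (A := Rep.of ρ₀) hpow hord (z := E S (-(n : ℤ)) m) (by
        have := Nop_comp_E S 0 (-(n : ℤ)) (by ring) (by rw [← hρ₀, ← map_pow, ← hord, pow_orderOf_eq_one, map_one]) m
        rw [Nop, LinearMap.sum_apply] at this
        rw [← this]
        exact Finset.sum_congr rfl fun r _ => by rw [← hρ₀, ← map_pow])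
      exact ⟨_, ⟨_, rfl⟩, key f m hf⟩
  -- the image is the set of functions supported on the indices where the derivative does not vanish
  let Q : J p n 1 → Prop := fun i => ¬ (p : ℤ) ∣ (1 : ℤ) - n + (i.1 : ℕ)
  let ext0 : ({i // Q i} → k) →ₗ[k] (J p n 1 → k) :=
    { toFun := fun c i => if h : Q i then c ⟨i, h⟩ else 0
      map_add' := fun c d => by ext i; by_cases h : Q i <;> simp [h]
      map_smul' := fun r c => by ext i; by_cases h : Q i <;> simp [h] }
  have hext : Function.Injective ext0 := fun c d h => funext fun i => by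
    have := congrFun h i.1
    simpa [ext0, i.2] using this
  have hcast : ∀ i : J p n 1, (((i.1 : ℕ) : k) + 1 - n = 0) ↔ ¬ Q i := fun i => by
    rw [not_not, ← CharP.intCast_eq_zero_iff k p]
    push_cast
    rw [show ((i.1 : ℕ) : k) + 1 - n = 1 - n + ((i.1 : ℕ) : k) by ring]
  have hL : LinearMap.range ((proj p n 1).comp (L (k := k) n)) = LinearMap.range ext0 := by
    ext y
    simp only [LinearMap.mem_range, LinearMap.comp_apply]
    constructor
    · rintro ⟨m, rfl⟩
      refine ⟨fun i => coeff (i.1.1 : ℕ) (L n m), funext fun i => ?_⟩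
      show (if h : Q i then coeff (i.1 : ℕ) (L n m) else 0) = coeff (i.1 : ℕ) (L n m)
      split_ifs with h
      · rfl
      · rw [coeff_L, (hcast i).2 h, zero_mul]
    · rintro ⟨c, rfl⟩
      refine ⟨PowerSeries.mk fun l => if h : ∃ i : {i // Q i}, (i.1.1 : ℕ) + 1 = l then
        c h.choose / (((h.choose.1.1 : ℕ) : k) + 1 - n) else 0, funext fun i => ?_⟩
      show coeff (i.1 : ℕ) (L n _) = if h : Q i then c ⟨i, h⟩ else 0
      rw [coeff_L, coeff_mk]
      by_cases h : Q i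
      · have hx : ∃ j : {i // Q i}, (j.1.1 : ℕ) + 1 = (i.1 : ℕ) + 1 := ⟨⟨i, h⟩, rfl⟩
        have hje : hx.choose = ⟨i, h⟩ := Subtype.ext (Subtype.ext (Fin.ext (Nat.succ_injective hx.choose_spec)))
        rw [dif_pos h, dif_pos hx, hje, mul_div_cancel₀]
        exact fun h0 => (hcast i).1 h0 h
      · rw [dif_neg h, (hcast i).2 h, zero_mul]
  let e₂ := (e₁.submoduleMap (LinearMap.range M)).trans
    ((LinearEquiv.ofEq _ _ (hrange.trans hL)).trans (LinearEquiv.ofInjective ext0 hext).symm)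
  refine ⟨Module.Finite.equiv e₂.symm, ?_⟩
  exact (congrArg (Nat.cast : ℕ → ℤ) (e₂.finrank_eq.trans (Module.finrank_fintype_fun_eq_card k))).trans
    (card_J₂ Fact.out S.n_pos S.not_dvd)

end Groth.Agent.Lib.ASCover99
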