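import Mathlib

/-!
# The twisted action `h ↦ u^c h(tu)` on `k[[t]]`, `u^n (1 + t^n) = 1`
-/

set_option autoImplicit false

noncomputable section

universe v

namespace Groth.Agent.Lib.ASCover99

open PowerSeries

variable {k : Type v} [Field k]

local notation "B" => PowerSeries k

/-- The substitution `t ↦ t u`. -/
def σ (u : PowerSeries k) : PowerSeries k →ₐ[k] PowerSeries k :=
  PowerSeries.substAlgHom (PowerSeries.HasSubst.of_constantCoeff_zero' (a := PowerSeries.X * u) (by simp))

theorem σ_apply (u h : B) : σ u h = PowerSeries.subst (X * u) h :=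
  congrFun (PowerSeries.coe_substAlgHom _) h

theorem σ_X (u : B) : σ u X = X * u := PowerSeries.substAlgHom_X _

theorem σ_C (u : B) (r : k) : σ u (C r) = C r := (σ u).commutes r

/-- The powers of `u` as series. -/
def upow {u : PowerSeries k} (hu : IsUnit u) (c : ℤ) : PowerSeries k := ((hu.unit ^ c : (PowerSeries k)ˣ) : PowerSeries k)

/-- Drop the first `n` coefficients. -/
def shiftₗ (n : ℕ) : PowerSeries k →ₗ[k] PowerSeries k where
  toFun h := PowerSeries.mk fun m => coeff (m + n) h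
  map_add' a b := by ext; simp
  map_smul' r a := by ext; simp

theorem X_pow_mul_shiftₗ {n : ℕ} {h : B} (hh : X ^ n ∣ h) : X ^ n * shiftₗ n h = h := by
  obtain ⟨q, rfl⟩ := hh
  congr 1
  ext m
  show coeff m (PowerSeries.mk fun m => coeff (m + n) (X ^ n * q)) = coeff m q
  rw [coeff_mk, coeff_X_pow_mul]

theorem eq_X_mul_add_C (w : B) : w = X * shiftₗ 1 w + C (constantCoeff w) :=
  eq_X_mul_shift_add_const w

variable (p n : ℕ) (u : PowerSeries k)

/-- The standing hypotheses. -/
structure Setup : Prop where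
  n_pos : 0 < n
  not_dvd : ¬ p ∣ n
  cc_u : constantCoeff u = 1
  eqn : u ^ n * (1 + X ^ n) = 1
  unit : IsUnit u
  natCast_ne : (n : k) ≠ 0

theorem Setup.of [CharP k p] (hn : 0 < n) (hpn : ¬ p ∣ n) (hu1 : constantCoeff u = 1)
    (hun : u ^ n * (1 + X ^ n) = 1) : Setup p n u where
  n_pos := hn
  not_dvd := hpn
  cc_u := hu1
  eqn := hun
  unit := PowerSeries.isUnit_iff_constantCoeff.2 (by rw [hu1]; exact isUnit_one)
  natCast_ne := fun h => hpn ((CharP.cast_eq_zero_iff k p n).1 h)

variable {p n u}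

/-- The twisted operator. -/
def T (S : Setup p n u) (c : ℤ) : Module.End k (PowerSeries k) :=
  LinearMap.mulLeft k (upow S.unit c) ∘ₗ (σ u).toLinearMap

variable (S : Setup p n u)

theorem T_apply (c : ℤ) (h : B) : T S c h = upow S.unit c * σ u h := rfl

/-- `E c` is `(T c - 1)/t^n`. -/
def E (c : ℤ) : PowerSeries k →ₗ[k] PowerSeries k := (shiftₗ n).comp (T S c - 1)

/-- The leading coefficient of `u - 1`. -/
def v0 (_ : Setup p n u) : k := -(n : k)⁻¹

include S in
theorem v0_ne : v0 S ≠ 0 := neg_ne_zero.2 (inv_ne_zero S.natCast_ne)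

theorem upow_zero (hu : IsUnit u) : upow hu 0 = 1 := by simp [upow]

theorem upow_one (hu : IsUnit u) : upow hu 1 = u := by simp [upow]

theorem upow_add (hu : IsUnit u) (a b : ℤ) : upow hu (a + b) = upow hu a * upow hu b := by
  simp [upow, zpow_add]

theorem upow_natCast (hu : IsUnit u) (a : ℕ) : upow hu (a : ℤ) = u ^ a := by simp [upow]

include S in
theorem exists_u_sub_one : ∃ v : B, u - 1 = X ^ n * v ∧ constantCoeff v = v0 S := by
  have hc : constantCoeff (∑ i ∈ Finset.range n, u ^ i) = (n : k) := by simp [S.cc_u]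
  obtain ⟨w, hw⟩ := (PowerSeries.isUnit_iff_constantCoeff.2 (hc ▸ isUnit_iff_ne_zero.2 S.natCast_ne)).exists_right_inv
  refine ⟨-(u ^ n * w), ?_, ?_⟩
  · have h1 := geom_sum_mul u n
    have h2 := S.eqn
    linear_combination (-(u - 1)) * hw + w * h1 + w * h2
  · have hw0 := congrArg constantCoeff hw
    rw [map_mul, hc, map_one] at hw0
    rw [map_neg, map_mul, map_pow, S.cc_u, one_pow, one_mul, v0, neg_inj]
    exact eq_inv_of_mul_eq_one_right hw0

include S in
theorem exists_upow_sub_one (c : ℤ) :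
    ∃ W : B, upow S.unit c - 1 = X ^ n * W ∧ constantCoeff W = (c : k) * v0 S := by
  obtain ⟨v, hv, hv0⟩ := exists_u_sub_one S
  induction c using Int.induction_on with
  | zero => exact ⟨0, by rw [upow_zero]; simp, by simp⟩
  | succ i ih =>
    obtain ⟨W, hW, hW0⟩ := ih
    refine ⟨W * u + v, ?_, ?_⟩
    · rw [upow_add, upow_one]
      linear_combination u * hW + hv
    · simp [hW0, hv0, S.cc_u, add_mul]
  | pred i ih =>
    obtain ⟨W, hW, hW0⟩ := ih
    obtain ⟨ui, hui⟩ := S.unit.exists_right_inv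
    have hui0 : constantCoeff ui = 1 := by
      have := congrArg constantCoeff hui
      rwa [map_mul, S.cc_u, one_mul, map_one] at this
    refine ⟨(W - v) * ui, ?_, ?_⟩
    · have h1 : upow S.unit (-(i : ℤ) - 1) * u = upow S.unit (-(i : ℤ)) := by
        have h := upow_add S.unit (-(i : ℤ) - 1) 1
        rw [sub_add_cancel, upow_one] at h
        exact h.symm
      linear_combination ui * hW - ui * hv + ui * h1 - (upow S.unit (-(i : ℤ) - 1) - 1) * hui
    · simp [hW0, hv0, hui0, sub_mul]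

include S in
theorem σ_congr (w : B) {m : ℕ} (hm : m ≤ n + 1) : X ^ m ∣ σ u w - w := by
  induction m generalizing w with
  | zero => simp
  | succ m ih =>
    obtain ⟨v, hv, -⟩ := exists_u_sub_one S
    have e : σ u w - w = X * (u * (σ u (shiftₗ 1 w) - shiftₗ 1 w) + (u - 1) * shiftₗ 1 w) := by
      conv_lhs => rw [eq_X_mul_add_C w, map_add, map_mul, σ_X, σ_C]
      ring
    rw [e, pow_succ']
    refine mul_dvd_mul_left _ (dvd_add (Dvd.dvd.mul_left (ih (shiftₗ 1 w) (by omega)) _) (Dvd.dvd.mul_right ?_ _))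
    exact hv ▸ (pow_dvd_pow X (by omega : m ≤ n)).mul_right v

theorem T_sub (c : ℤ) (w : B) : ∃ W, T S c w - w = X ^ n * W ∧
    constantCoeff W = (c : k) * v0 S * constantCoeff w := by
  obtain ⟨W, hW, hW0⟩ := exists_upow_sub_one S c
  obtain ⟨q, hq⟩ := σ_congr S w le_rfl
  refine ⟨upow S.unit c * X * q + W * w, ?_, by simp [hW0]⟩
  rw [T_apply]
  linear_combination upow S.unit c * hq + w * hW

theorem X_pow_mul_E (c : ℤ) (w : B) : X ^ n * E S c w = T S c w - w := by
  obtain ⟨W, hW, -⟩ := T_sub S c w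
  exact X_pow_mul_shiftₗ ⟨W, hW⟩

theorem cancel {a b : B} (h : (X : B) ^ n * a = X ^ n * b) : a = b :=
  mul_left_cancel₀ (pow_ne_zero _ X_ne_zero) h

theorem constantCoeff_E (c : ℤ) (w : B) : constantCoeff (E S c w) = (c : k) * v0 S * constantCoeff w := by
  obtain ⟨W, hW, hW0⟩ := T_sub S c w
  rw [cancel (n := n) (a := E S c w) (b := W) (by rw [X_pow_mul_E, hW]), hW0]

theorem T_X_pow_mul (c : ℤ) (i : ℕ) (w : B) : T S c (X ^ i * w) = X ^ i * T S (c + i) w := by
  rw [T_apply, T_apply, map_mul, map_pow, σ_X, upow_add, upow_natCast]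
  ring

theorem E_X_pow_mul (c : ℤ) (i : ℕ) (w : B) : E S c (X ^ i * w) = X ^ i * E S (c + i) w := by
  apply cancel (n := n)
  rw [X_pow_mul_E, T_X_pow_mul, mul_left_comm, X_pow_mul_E, mul_sub]

theorem T_mul (c : ℤ) (h f : B) : T S c (h * f) = σ u h * T S c f := by
  rw [T_apply, T_apply, map_mul]; ring

theorem T_pow_mul (c : ℤ) (h f : B) (r : ℕ) : (T S c ^ r) (h * f) = (σ u)^[r] h * (T S c ^ r) f := by
  induction r with
  | zero => simp
  | succ r ih =>
    rw [pow_succ', Module.End.mul_apply, Module.End.mul_apply, ih, T_mul, Function.iterate_succ_apply']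

theorem T_pow_X_pow_mul (a b : ℤ) (hab : a = b + n) (f : B) (r : ℕ) :
    (T S b ^ r) (X ^ n * f) = X ^ n * (T S a ^ r) f := by
  induction r with
  | zero => simp
  | succ r ih => rw [pow_succ', Module.End.mul_apply, ih, T_X_pow_mul, ← hab, pow_succ', Module.End.mul_apply]

include S in
theorem iterate_σ_X_pow (r : ℕ) : (σ u)^[r] (X ^ n) * (1 + (r : B) * X ^ n) = X ^ n := by
  induction r with
  | zero => simp
  | succ r ih =>
    have hy : σ u (X ^ n) * (1 + X ^ n) = X ^ n := by
      rw [map_pow, σ_X, mul_pow, mul_assoc, S.eqn, mul_one]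
    have h := congrArg (σ u) ih
    rw [map_mul, map_add, map_one, map_mul, map_natCast, ← Function.iterate_succ_apply' (σ u) r] at h
    push_cast
    linear_combination (1 + X ^ n) * h + (1 - (σ u)^[r + 1] (X ^ n) * (r : B)) * hy

/-- The norm operator. -/
def Nop (a : ℤ) : Module.End k (PowerSeries k) := ∑ r ∈ Finset.range p, T S a ^ r

theorem Nop_comp_E [CharP k p] (a b : ℤ) (hab : a = b + n) (hT : T S a ^ p = 1) (f : B) :
    Nop S a (E S b f) = 0 := by
  haveI : CharP B p := charP_of_injective_algebraMap (algebraMap k B).injective p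
  have hσ : (σ u)^[p] (X ^ n : B) = X ^ n := by
    have := iterate_σ_X_pow S p
    rwa [CharP.cast_eq_zero, zero_mul, add_zero, mul_one] at this
  have hTb : (T S b ^ p) f = f := by
    apply cancel (n := n)
    have := T_pow_X_pow_mul S a b hab f p
    rwa [T_pow_mul, hσ, hT, Module.End.one_apply] at this
  apply cancel (n := n)
  rw [mul_zero, Nop, LinearMap.sum_apply, Finset.mul_sum,
    Finset.sum_congr rfl fun r _ => (T_pow_X_pow_mul S a b hab (E S b f) r).symm]
  have : ∀ r, (T S b ^ r) (X ^ n * E S b f) = (T S b ^ (r + 1)) f - (T S b ^ r) f := fun r => by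
    rw [X_pow_mul_E, map_sub, pow_succ, Module.End.mul_apply]
  simp only [this]
  rw [Finset.sum_range_sub (fun r => (T S b ^ r) f), hTb, pow_zero, Module.End.one_apply, sub_self]

theorem Nop_eq [Fact p.Prime] [CharP k p] (a : ℤ) : Nop S a = (T S a - 1) ^ (p - 1) := by
  have hp : p.Prime := Fact.out
  have key : (∑ r ∈ Finset.range p, (Polynomial.X : Polynomial k) ^ r) = (Polynomial.X - 1) ^ (p - 1) := by
    refine mul_right_cancel₀ (Polynomial.X_sub_C_ne_zero (1 : k)) ?_
    rw [map_one, geom_sum_mul, ← pow_succ, show p - 1 + 1 = p by have := hp.pos; omega, sub_pow_char, one_pow]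
  have := congrArg (Polynomial.aeval (T S a)) key
  simpa [Nop] using this

theorem D_pow_lead (a : ℤ) (i : ℕ) (w : B) (r : ℕ) :
    ∃ W, ((T S a - 1) ^ r) (X ^ i * w) = X ^ (i + r * n) * W ∧
      constantCoeff W = (∏ s ∈ Finset.range r, ((a : k) + i + s * n) * v0 S) * constantCoeff w := by
  induction r with
  | zero => exact ⟨w, by simp, by simp⟩
  | succ r ih =>
    obtain ⟨W, hW, hW0⟩ := ih
    refine ⟨E S (a + (i + r * n : ℕ)) W, ?_, ?_⟩
    · rw [pow_succ', Module.End.mul_apply, hW, LinearMap.sub_apply, Module.End.one_apply, T_X_pow_mul, ← mul_sub,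
        ← X_pow_mul_E, ← mul_assoc, ← pow_add, show i + r * n + n = i + (r + 1) * n by ring]
    · rw [constantCoeff_E, hW0, Finset.prod_range_succ]
      push_cast
      ring

theorem lead_ne_zero [Fact p.Prime] [CharP k p] (a b : ℤ) (hab : a = b + n) (i : ℕ) (w : B)
    (hw : constantCoeff w ≠ 0) (hN : Nop S a (X ^ i * w) = 0) : ((b : k) + i) ≠ 0 := by
  intro h
  obtain ⟨W, hW, hW0⟩ := D_pow_lead S a i w (p - 1)
  rw [Nop_eq, hW] at hN
  have hWz : constantCoeff W = 0 := by
    rw [(mul_eq_zero.1 hN).resolve_left (pow_ne_zero _ X_ne_zero), map_zero]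
  rw [hW0] at hWz
  refine mul_ne_zero (Finset.prod_ne_zero_iff.2 fun s hs => mul_ne_zero ?_ (v0_ne S)) hw hWz
  have e : (a : k) + i + s * n = ((s + 1 : ℕ) : k) * n := by
    rw [hab]; push_cast; linear_combination h
  rw [e]
  refine mul_ne_zero (fun h0 => ?_) S.natCast_ne
  have hle := Nat.le_of_dvd (Nat.succ_pos s) ((CharP.cast_eq_zero_iff k p _).1 h0)
  have := Finset.mem_range.1 hs
  omega

theorem exists_E_eq [Fact p.Prime] [CharP k p] (a b : ℤ) (hab : a = b + n) (hT : T S a ^ p = 1) (h : B)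
    (hh : Nop S a h = 0) : ∃ m, E S b m = h := by
  classical
  have step : ∀ (i : ℕ) (f : {f : B // Nop S a f = 0 ∧ X ^ i ∣ f}), ∃ c : k,
      X ^ (i + 1) ∣ (f : B) - E S b (X ^ i * C c) := by
    rintro i ⟨f, hf, w, rfl⟩
    have hfac : ∀ c : k, X ^ i * w - E S b (X ^ i * C c) = X ^ i * (w - E S (b + i) (C c)) := fun c => by
      rw [E_X_pow_mul, mul_sub]
    simp only [hfac, pow_succ]
    by_cases hw : constantCoeff w = 0
    · exact ⟨0, mul_dvd_mul_left _ (X_dvd_iff.2 (by simp [hw]))⟩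
    · have hne := mul_ne_zero (lead_ne_zero S a b hab i w hw hf) (v0_ne S)
      refine ⟨constantCoeff w / (((b : k) + i) * v0 S), mul_dvd_mul_left _ (X_dvd_iff.2 ?_)⟩
      rw [map_sub, constantCoeff_E, constantCoeff_C]
      push_cast
      rw [mul_div_cancel₀ _ hne, sub_self]
  choose c hc using step
  let r : ∀ i : ℕ, {f : B // Nop S a f = 0 ∧ X ^ i ∣ f} := fun i =>
    Nat.rec ⟨h, hh, by simp⟩ (fun i f => ⟨(f : B) - E S b (X ^ i * C (c i f)),
      by rw [map_sub, f.2.1, Nop_comp_E S a b hab hT, sub_self], hc i f⟩) i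
  let d : ℕ → k := fun i => c i (r i)
  refine ⟨PowerSeries.mk d, ?_⟩
  have hr : ∀ i, (r i).1 = h - E S b (∑ j ∈ Finset.range i, X ^ j * C (d j)) := by
    intro i
    induction i with
    | zero => simp [r]
    | succ i ih =>
      rw [Finset.sum_range_succ, map_add, ← sub_sub, ← ih]
  refine (sub_eq_zero.1 (PowerSeries.ext fun i => ?_)).symm
  obtain ⟨q, hq⟩ : X ^ (i + 1) ∣ PowerSeries.mk d - ∑ j ∈ Finset.range (i + 1), X ^ j * C (d j) := by
    rw [X_pow_dvd_iff]
    intro m hm
    rw [map_sub, coeff_mk, map_sum, Finset.sum_eq_single m]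
    · simp [coeff_C, coeff_X_pow_mul']
    · intro j _ hj
      rw [mul_comm, coeff_C_mul, coeff_X_pow, if_neg (Ne.symm hj), mul_zero]
    · intro h'; exact absurd (Finset.mem_range.2 hm) h'
  have hd : X ^ (i + 1) ∣ h - E S b (PowerSeries.mk d) := by
    rw [sub_eq_iff_eq_add.1 hq, map_add, E_X_pow_mul, ← sub_sub, sub_right_comm, ← hr]
    exact dvd_sub (r (i + 1)).2.2 (dvd_mul_right _ _)
  rw [map_zero]
  exact X_pow_dvd_iff.1 hd i (Nat.lt_succ_self i)

/-! ### The kernel of `E b` modulo `t^n` -/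

theorem pow_injective_of_constantCoeff_one (hne : (n : k) ≠ 0) {a b : B} (ha : constantCoeff a = 1)
    (hb : constantCoeff b = 1) (h : a ^ n = b ^ n) : a = b := by
  have h1 := geom_sum₂_mul a b n
  rw [h, sub_self] at h1
  refine sub_eq_zero.1 ((mul_eq_zero.1 h1).resolve_left fun h0 => hne ?_)
  simpa [ha, hb] using congrArg constantCoeff h0

include S in
theorem exists_invariant [IsAlgClosed k] [Fact p.Prime] [CharP k p] :
    ∃ P : Bˣ, upow S.unit (p : ℤ) * σ u (P : B) = P ∧ X ^ n ∣ (P : B) - 1 := by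
  have hp : p.Prime := Fact.out
  haveI : CharP B p := charP_of_injective_algebraMap (algebraMap k B).injective p
  obtain ⟨ω, hω⟩ := IsAlgClosed.exists_pow_nat_eq (-1 : k) S.n_pos
  have hp1 : p - 1 ≠ 0 := by have := hp.two_le; omega
  have hs : PowerSeries.HasSubst (C ω * X ^ (p - 1) : B) :=
    PowerSeries.HasSubst.of_constantCoeff_zero' (by simp [hp1])
  let π : B →ₐ[k] B := PowerSeries.substAlgHom hs
  set P : B := π u with hP
  have hPeq : P ^ n * (1 - X ^ (n * (p - 1))) = 1 := by
    have h := congrArg π S.eqn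
    rw [map_mul, map_add, map_one, map_pow π X, map_pow π u, show π X = C ω * X ^ (p - 1) from substAlgHom_X hs,
      mul_pow, ← map_pow C, hω, ← pow_mul] at h
    rw [map_neg, map_one] at h
    rw [hP, mul_comm n (p - 1)]
    linear_combination h
  have hP1 : constantCoeff P = 1 := by
    rw [hP, eq_X_mul_add_C u, S.cc_u, map_one, map_add, map_mul, map_one,
      show π X = C ω * X ^ (p - 1) from substAlgHom_X hs]
    simp [hp1]
  have hPu : IsUnit P := PowerSeries.isUnit_iff_constantCoeff.2 (by rw [hP1]; exact isUnit_one)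
  have hcc : ∀ w : B, constantCoeff (σ u w) = constantCoeff w := fun w => by
    conv_lhs => rw [eq_X_mul_add_C w, map_add, map_mul, σ_X, σ_C]
    simp
  refine ⟨hPu.unit, ?_, ?_⟩
  · rw [IsUnit.unit_spec, upow_natCast]
    refine pow_injective_of_constantCoeff_one S.natCast_ne (by simp [S.cc_u, hcc, hP1]) hP1 ?_
    -- both are `n`-th roots of `(1 - t^(n(p-1)))⁻¹`
    have e1 : σ u (X ^ n) * (1 + X ^ n) = X ^ n := by
      rw [map_pow, σ_X, mul_pow, mul_assoc, S.eqn, mul_one]
    have hσP := congrArg (σ u) hPeq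
    rw [map_mul, map_pow, map_sub, map_one, pow_mul, map_pow] at hσP
    set y : B := X ^ n
    have e2 : (1 - σ u y ^ (p - 1)) * (1 + y) ^ p = 1 - y ^ (p - 1) := by
      have h3 : σ u y ^ (p - 1) * (1 + y) ^ p = y ^ (p - 1) * (1 + y) := by
        conv_lhs => arg 2; rw [show p = p - 1 + 1 by omega, pow_succ]
        rw [← mul_assoc, ← mul_pow, e1]
      rw [sub_mul, one_mul, h3, add_pow_char, one_pow,
        show y ^ p = y ^ (p - 1) * y by rw [← pow_succ, show p - 1 + 1 = p by omega]]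
      ring
    have hb := hPeq
    rw [pow_mul] at hb
    have hune : (1 - y ^ (p - 1)) ≠ 0 := right_ne_zero_of_mul (hb ▸ one_ne_zero)
    refine mul_right_cancel₀ hune ?_
    rw [hb, ← e2, mul_pow, ← pow_mul, mul_comm p n, pow_mul]
    calc (u ^ n) ^ p * σ u P ^ n * ((1 - σ u y ^ (p - 1)) * (1 + y) ^ p)
        = (σ u P ^ n * (1 - σ u y ^ (p - 1))) * (u ^ n * (1 + y)) ^ p := by rw [mul_pow (u ^ n)]; ring
      _ = 1 := by rw [hσP, S.eqn, one_pow, one_mul]
  · rw [IsUnit.unit_spec]
    have hc : constantCoeff (∑ i ∈ Finset.range n, P ^ i) = (n : k) := by simp [hP1]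
    have hu' : IsUnit (∑ i ∈ Finset.range n, P ^ i) :=
      PowerSeries.isUnit_iff_constantCoeff.2 (hc ▸ isUnit_iff_ne_zero.2 S.natCast_ne)
    rw [← hu'.dvd_mul_left, geom_sum_mul, show P ^ n - 1 = X ^ (n * (p - 1)) * P ^ n by linear_combination hPeq]
    exact (pow_dvd_pow X (Nat.le_mul_of_pos_right n (Nat.pos_of_ne_zero hp1))).mul_right _

theorem exists_kernel_elt [IsAlgClosed k] [Fact p.Prime] [CharP k p] (b : ℤ) (i : ℕ) (hi : (p : ℤ) ∣ b + i) :
    ∃ κ : B, E S b κ = 0 ∧ X ^ n ∣ κ - X ^ i := by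
  obtain ⟨P, hP, hP1⟩ := exists_invariant S
  obtain ⟨s, hs⟩ := hi
  have hinv : ∀ s : ℤ, upow S.unit (p * s) * σ u ((P ^ s : Bˣ) : B) = ((P ^ s : Bˣ) : B) := by
    intro s
    have hunit : S.unit.unit ^ (p : ℤ) * Units.map (σ u).toMonoidHom P = P := Units.ext hP
    have h2 := congrArg (fun z : Bˣ => z ^ s) hunit
    simp only [mul_zpow, ← map_zpow, ← zpow_mul] at h2
    exact congrArg Units.val h2
  refine ⟨X ^ i * ((P ^ s : Bˣ) : B), cancel (n := n) ?_, ?_⟩
  · rw [mul_zero, X_pow_mul_E, T_X_pow_mul, T_apply, hs, hinv, sub_self]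
  · have h : X ^ n ∣ ((P ^ s : Bˣ) : B) - 1 := by
      rw [← Ideal.mem_span_singleton, ← Ideal.Quotient.eq]
      have h1 : Units.map (Ideal.Quotient.mk (Ideal.span {(X : B) ^ n})).toMonoidHom P = 1 := by
        ext
        simp only [Units.coe_map, RingHom.toMonoidHom_eq_coe, MonoidHom.coe_coe, Units.val_one]
        rw [← map_one (Ideal.Quotient.mk (Ideal.span {(X : B) ^ n})), Ideal.Quotient.eq, Ideal.mem_span_singleton]
        exact hP1
      have h2 := congrArg Units.val (congrArg (fun z => z ^ s) h1)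
      simp only [← map_zpow, one_zpow, Units.val_one, Units.coe_map, RingHom.toMonoidHom_eq_coe,
        MonoidHom.coe_coe] at h2
      rw [h2, map_one]
    rw [← mul_sub_one]
    exact h.mul_left _

/-- The significant indices. -/
abbrev J (p n : ℕ) (b : ℤ) := {i : Fin n // ¬ (p : ℤ) ∣ b + (i : ℕ)}

/-- Coefficients at the significant indices. -/
def proj (p n : ℕ) (b : ℤ) : PowerSeries k →ₗ[k] (J p n b → k) where
  toFun h i := coeff (i.1 : ℕ) h
  map_add' _ _ := by ext; simp
  map_smul' _ _ := by ext; simp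

theorem proj_surjective (b : ℤ) : Function.Surjective (proj (k := k) p n b) := by
  classical
  intro f
  refine ⟨PowerSeries.mk fun m => if h : m < n ∧ ¬ (p : ℤ) ∣ b + m then f ⟨⟨m, h.1⟩, h.2⟩ else 0, funext fun i => ?_⟩
  simp [proj, i.1.2, i.2]

theorem E_eq_iff [IsAlgClosed k] [Fact p.Prime] [CharP k p] (b : ℤ) (f : B) :
    (∃ q, E S b f = E S b (X ^ n * q)) ↔ proj p n b f = 0 := by
  classical
  choose κ hκ hκ' using fun (i : ℕ) (hi : (p : ℤ) ∣ b + i) => exists_kernel_elt S b i hi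
  let corr : B → B := fun f => ∑ i ∈ Finset.range n, if hi : (p : ℤ) ∣ b + i then C (coeff i f) * κ i hi else 0
  have hcorr : ∀ f, E S b (corr f) = 0 := fun f => by
    rw [map_sum]
    refine Finset.sum_eq_zero fun i _ => ?_
    split_ifs with hi
    · rw [← smul_eq_C_mul, map_smul, hκ, smul_zero]
    · exact map_zero _
  have hcoeff : ∀ f m, m < n → coeff m (corr f) = if (p : ℤ) ∣ b + m then coeff m f else 0 := by
    intro f m hm
    rw [map_sum, Finset.sum_eq_single m]
    · split_ifs with hi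
      · have := X_pow_dvd_iff.1 (hκ' m hi) m hm
        rw [map_sub, sub_eq_zero, coeff_X_pow_self] at this
        rw [coeff_C_mul, this, mul_one]
      · exact map_zero _
    · intro j _ hj
      split_ifs with hi
      · have := X_pow_dvd_iff.1 (hκ' j hi) m hm
        rw [map_sub, sub_eq_zero, coeff_X_pow, if_neg (Ne.symm hj)] at this
        rw [coeff_C_mul, this, mul_zero]
      · exact map_zero _
    · intro h; exact absurd (Finset.mem_range.2 hm) h
  constructor
  · rintro ⟨q, hq⟩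
    funext i
    show coeff (i.1 : ℕ) f = 0
    by_contra hne
    set d := f - X ^ n * q - corr (f - X ^ n * q) with hd
    have hEd : E S b d = 0 := by rw [hd, map_sub, hcorr, sub_zero, map_sub, hq, sub_self]
    have hex : ∃ m, m < n ∧ coeff m d ≠ 0 := by
      refine ⟨i.1, i.1.2, ?_⟩
      rw [hd, map_sub, hcoeff _ _ i.1.2, if_neg i.2, sub_zero, map_sub]
      simpa [coeff_X_pow_mul', not_le.2 i.1.2] using hne
    obtain ⟨hm, hm0⟩ := Nat.find_spec hex
    set m := Nat.find hex
    have hdiv : X ^ m ∣ d := X_pow_dvd_iff.2 fun l hl => by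
      by_contra h; exact Nat.find_min hex hl ⟨hl.trans hm, h⟩
    have hnd : ¬ (p : ℤ) ∣ b + m := fun h => hm0 (by rw [hd, map_sub, hcoeff _ _ hm, if_pos h, sub_self])
    obtain ⟨w, hw⟩ := hdiv
    have hz := congrArg constantCoeff ((mul_eq_zero.1 (show (X : B) ^ m * E S (b + m) w = 0 by
      rw [← E_X_pow_mul, ← hw, hEd])).resolve_left (pow_ne_zero _ X_ne_zero))
    rw [constantCoeff_E, map_zero] at hz
    refine hm0 ?_
    rw [hw, coeff_X_pow_mul', if_pos le_rfl, Nat.sub_self, coeff_zero_eq_constantCoeff]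
    rcases mul_eq_zero.1 hz with h | h
    · rcases mul_eq_zero.1 h with h | h
      · exact absurd ((CharP.intCast_eq_zero_iff k p _).1 h) hnd
      · exact absurd h (v0_ne S)
    · exact h
  · intro hf
    obtain ⟨q, hq⟩ : X ^ n ∣ f - corr f := X_pow_dvd_iff.2 fun m hm => by
      rw [map_sub, hcoeff f m hm]
      split_ifs with hi
      · exact sub_self _
      · rw [sub_zero]; exact congrFun hf ⟨⟨m, hm⟩, hi⟩
    exact ⟨q, by rw [← hq, map_sub, hcorr, sub_zero]⟩

theorem E_X_pow_n (a b : ℤ) (hab : a = b + n) (q : B) : E S b (X ^ n * q) = T S a q - q := by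
  rw [E_X_pow_mul, ← hab, X_pow_mul_E]

/-! ### Derivatives -/

include S in
theorem derivative_σ (h : B) : d⁄dX k (σ u h) = u ^ (n + 1) * σ u (d⁄dX k h) := by
  have hs : PowerSeries.HasSubst (X * u : B) := PowerSeries.HasSubst.of_constantCoeff_zero' (by simp)
  rw [σ_apply, σ_apply, derivative_subst hs, mul_comm]
  congr 1
  have hd := congrArg (d⁄dX k) S.eqn
  obtain ⟨j, hj⟩ : ∃ j, n = j + 1 := ⟨n - 1, by have := S.n_pos; omega⟩
  have hne : (n : B) ≠ 0 := by
    rw [← map_natCast (C : k →+* B)]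
    exact fun h0 => S.natCast_ne (by simpa using congrArg constantCoeff h0)
  have he := S.eqn
  simp only [Derivation.leibniz, map_add, Derivation.map_one_eq_zero, derivative_pow, derivative_X, smul_eq_mul,
    mul_one, zero_add] at hd ⊢
  rw [hj, show j + 1 - 1 = j by omega] at hd
  rw [hj] at he hne ⊢
  set D := (d⁄dX k) u
  -- `n u' = -n t^(n-1) u^(n+1)`
  refine mul_left_cancel₀ hne ?_
  linear_combination (X * u) * hd - ((j + 1 : ℕ) : B) * (X * D + u) * he

/-- The map on the auxiliary modules induced by the derivative. -/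
def L (n : ℕ) : PowerSeries k →ₗ[k] PowerSeries k :=
  (d⁄dX k).toLinearMap - (n : k) • shiftₗ 1

theorem coeff_L (h : B) (i : ℕ) : coeff i (L (k := k) n h) = ((i : k) + 1 - n) * coeff (i + 1) h := by
  rw [L, LinearMap.sub_apply, LinearMap.smul_apply, map_sub, map_smul]
  show coeff i (d⁄dX k h) - (n : k) • coeff i (PowerSeries.mk fun m => coeff (m + 1) h) = _
  rw [coeff_derivative, coeff_mk, smul_eq_mul]
  ring

theorem derivative_E (h : B) : d⁄dX k (E S (-n) h) = E S 1 (L n h) := by
  apply cancel (n := n)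
  rw [X_pow_mul_E, T_apply, upow_one]
  have h1 : upow S.unit (-(n : ℤ)) = 1 + X ^ n := by
    have h0 : upow S.unit (-(n : ℤ)) * u ^ n = 1 := by
      rw [← upow_natCast S.unit, ← upow_add, neg_add_cancel, upow_zero]
    linear_combination (1 + X ^ n) * h0 - upow S.unit (-(n : ℤ)) * S.eqn
  have hdef : X ^ n * E S (-n) h = (1 + X ^ n) * σ u h - h := by rw [X_pow_mul_E, T_apply, h1]
  have hd := congrArg (d⁄dX k) hdef
  obtain ⟨j, hj⟩ : ∃ j, n = j + 1 := ⟨n - 1, by have := S.n_pos; omega⟩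
  have he := S.eqn
  simp only [Derivation.leibniz, map_add, map_sub, Derivation.map_one_eq_zero, derivative_pow, derivative_X,
    smul_eq_mul, mul_one, zero_add, derivative_σ S] at hd
  rw [show n - 1 = j by omega] at hd
  have hL : L n h = d⁄dX k h - (n : B) * shiftₗ 1 h := by
    rw [L, LinearMap.sub_apply, LinearMap.smul_apply, smul_eq_C_mul, map_natCast]; rfl
  have hsh : σ u h = X * u * σ u (shiftₗ 1 h) + C (constantCoeff h) := by
    conv_lhs => rw [eq_X_mul_add_C h, map_add, map_mul, σ_X, σ_C]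
  rw [hL, map_sub, map_mul, map_natCast]
  have hdef' := hdef
  have hh := eq_X_mul_add_C h
  set s := shiftₗ 1 h
  set e := E S (-(n : ℤ)) h
  set Dh := (d⁄dX k) h
  rw [hj] at hd hdef' he ⊢
  refine mul_left_cancel₀ (X_ne_zero (R := k)) ?_
  linear_combination X * hd - ((j + 1 : ℕ) : B) * hdef' + X * u * σ u Dh * he - ((j + 1 : ℕ) : B) * hsh
    + ((j + 1 : ℕ) : B) * hh

end Groth.Agent.Lib.ASCover99
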